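import Groth.Agent.Pinch99.Sections
import Groth.Agent.Desc59.FTDescArb
import Groth.Agent.Props58.PullTensor
import Groth.Agent.Csa25.SecTransport
import Groth.Agent.QC70.Hom

/-!
Finite locally free modules on a pushout of ringed spaces are determined by their pullbacks.
-/

set_option autoImplicit false
set_option backward.isDefEq.respectTransparency.types false
set_option linter.style.haveILetI false
set_option maxHeartbeats 800000

universe u

open CategoryTheory CategoryTheory.Limits AlgebraicGeometry TopologicalSpace Opposite TensorProduct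
open Groth.Agent.QC70 Groth.Agent.Props58.LocFree Groth.Agent.DCK91 Groth.Agent.Amp73

noncomputable section

namespace Groth.Agent.Pinch99

/-- A local basis pulls back to a local basis. -/
theorem stalkBasis_pullS {X Y : Scheme.{u}} (f : X ⟶ Y) {F : Y.Modules} {U : Y.Opens} {n : ℕ}
    {s : Fin n → Γ(F, U)} (hs : StalkBasis s) : StalkBasis (fun i => pullS f F U (s i)) := by
  intro x hx
  letI := (f.stalkMap x).hom.toAlgebra
  letI := Module.compHom (((Scheme.Modules.pullback f).obj F).presheaf.stalk x) (f.stalkMap x).hom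
  haveI : IsScalarTower (Y.presheaf.stalk (f x)) (X.presheaf.stalk x)
      (((Scheme.Modules.pullback f).obj F).presheaf.stalk x) :=
    IsScalarTower.of_algebraMap_smul fun r e => rfl
  let E := (isBaseChange_pullη f F x).equiv
  let P := TensorProduct.piScalarRight (Y.presheaf.stalk (f x)) (X.presheaf.stalk x) (X.presheaf.stalk x) (Fin n)
  let L := TensorProduct.AlgebraTensorModule.congr (LinearEquiv.refl (X.presheaf.stalk x) (X.presheaf.stalk x))
    (hs.stalkEquiv (f x) hx)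
  let T := P.symm.trans (L.trans E)
  have key : ∀ c, germComb (fun i => pullS f F U (s i)) x (U := f ⁻¹ᵁ U) hx c = T c := by
    intro c
    have hc : P.symm c = ∑ i, c i ⊗ₜ[Y.presheaf.stalk (f x)] Pi.single i 1 := by
      rw [LinearEquiv.symm_apply_eq]
      funext j
      simp [P, Pi.single_apply]
    simp only [T, LinearEquiv.trans_apply, hc, map_sum, L, TensorProduct.AlgebraTensorModule.congr_tmul,
      LinearEquiv.refl_apply, E, IsBaseChange.equiv_tmul]
    refine Finset.sum_congr rfl fun i _ => ?_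
    have e : hs.stalkEquiv (f x) hx (Pi.single i 1) = germM F U (f x) hx (s i) := by
      show Fintype.linearCombination _ _ (Pi.single i 1) = _
      rw [Fintype.linearCombination_apply_single, one_smul]
    rw [e]
    exact congrArg (c i • ·) (pullη_germ f F x hx (s i)).symm
  rw [show germComb (fun i => pullS f F U (s i)) x (U := f ⁻¹ᵁ U) hx = T from funext key]
  exact T.bijective

theorem pullS_add {X Y : Scheme.{u}} (f : X ⟶ Y) (F : Y.Modules) (U : Y.Opens) (a b : Γ(F, U)) :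
    pullS f F U (a + b) = pullS f F U a + pullS f F U b :=
  map_add _ _ _

theorem pullS_sum {X Y : Scheme.{u}} (f : X ⟶ Y) (F : Y.Modules) (U : Y.Opens) {ι : Type*} (t : Finset ι)
    (a : ι → Γ(F, U)) : pullS f F U (∑ i ∈ t, a i) = ∑ i ∈ t, pullS f F U (a i) :=
  map_sum _ _ _

theorem pullS_res {X Y : Scheme.{u}} (f : X ⟶ Y) (F : Y.Modules) {U V : Y.Opens} (h : V ≤ U) (m : Γ(F, U)) :
    res ((Scheme.Modules.pullback f).obj F) (f.preimage_mono h) (pullS f F U m) = pullS f F V (res F h m) :=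
  Amp73.res_pullS f F h m

theorem pullS_comb {X Y : Scheme.{u}} (f : X ⟶ Y) (F : Y.Modules) {U W : Y.Opens} (h : W ≤ U) {n : ℕ}
    (s : Fin n → Γ(F, U)) (a : Fin n → Γ(Y, W)) :
    pullS f F W (∑ i, a i • res F h (s i)) =
      ∑ i, f.app W (a i) • res ((Scheme.Modules.pullback f).obj F) (f.preimage_mono h) (pullS f F U (s i)) := by
  rw [pullS_sum]
  exact Finset.sum_congr rfl fun i _ => by rw [pullS_smul, pullS_res]

variable {X Y Z T : Scheme.{u}} (fX : Z ⟶ X) (fY : Z ⟶ Y) (gX : X ⟶ T) (gY : Y ⟶ T) (hw : fX ≫ gX = fY ≫ gY)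

/-- The comparison isomorphism on the corner. -/
abbrev corner (N : T.Modules) : (Scheme.Modules.pullback fX).obj ((Scheme.Modules.pullback gX).obj N) ≅
    (Scheme.Modules.pullback fY).obj ((Scheme.Modules.pullback gY).obj N) :=
  (Scheme.Modules.pullbackComp fX gX).app N ≪≫ (Scheme.Modules.pullbackCongr hw).app N ≪≫
    ((Scheme.Modules.pullbackComp fY gY).app N).symm

include hw in
theorem le_corner (W : T.Opens) : fX ⁻¹ᵁ gX ⁻¹ᵁ W ≤ fY ⁻¹ᵁ gY ⁻¹ᵁ W := by
  show (fX ≫ gX) ⁻¹ᵁ W ≤ (fY ≫ gY) ⁻¹ᵁ W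
  rw [hw]

theorem corner_pullS (N : T.Modules) (W : T.Opens) (m : Γ(N, W)) :
    (corner fX fY gX gY hw N).hom.app (fX ⁻¹ᵁ gX ⁻¹ᵁ W) (pullS fX _ (gX ⁻¹ᵁ W) (pullS gX N W m)) =
      res _ (le_corner fX fY gX gY hw W) (pullS fY _ (gY ⁻¹ᵁ W) (pullS gY N W m)) := by
  have h1 : ((Scheme.Modules.pullbackComp fX gX).hom.app N).app ((fX ≫ gX) ⁻¹ᵁ W)
      (pullS fX _ (gX ⁻¹ᵁ W) (pullS gX N W m)) = pullS (fX ≫ gX) N W m := by
    rw [← Props58.PullTensor.pullS_comp fX gX N W m]
    exact ConcreteCategory.congr_hom (congrArg (fun φ => Scheme.Modules.Hom.app φ ((fX ≫ gX) ⁻¹ᵁ W))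
      ((Scheme.Modules.pullbackComp fX gX).inv_hom_id_app N)) _
  refine (congrArg (fun z => ((Scheme.Modules.pullbackComp fY gY).inv.app N).app _
    (((Scheme.Modules.pullbackCongr hw).hom.app N).app _ z)) h1).trans ?_
  refine (congrArg (((Scheme.Modules.pullbackComp fY gY).inv.app N).app _)
    (Csa25.pullbackCongr_app_pullS hw N W m)).trans ?_
  refine (QC70.app_res ((Scheme.Modules.pullbackComp fY gY).inv.app N) (le_corner fX fY gX gY hw W) _).trans ?_
  exact congrArg (res _ _) (Props58.PullTensor.pullS_comp fY gY N W m)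

variable (hpo : IsPushout (toRS.map fX) (toRS.map fY) (toRS.map gX) (toRS.map gY))

include hw hpo in
theorem pullS_injective {N : T.Modules} (hN : FlatMod.IsFinLocFree N) (W : T.Opens) {m m' : Γ(N, W)}
    (hX : pullS gX N W m = pullS gX N W m') (hY : pullS gY N W m = pullS gY N W m') : m = m' := by
  refine QC70.section_ext N _ _ fun p hp => ?_
  obtain ⟨U, n, s, hpU, hs⟩ := isFinLocFree_iff.mp hN p
  refine ⟨W ⊓ U, inf_le_left, ⟨hp, hpU⟩, ?_⟩
  obtain ⟨a, ha⟩ := hs.exists_comb (inf_le_right : W ⊓ U ≤ U) (res N inf_le_left m)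
  obtain ⟨b, hb⟩ := hs.exists_comb (inf_le_right : W ⊓ U ≤ U) (res N inf_le_left m')
  have kX := congrArg (res _ (gX.preimage_mono (inf_le_left : W ⊓ U ≤ W))) hX
  have kY := congrArg (res _ (gY.preimage_mono (inf_le_left : W ⊓ U ≤ W))) hY
  rw [pullS_res gX N inf_le_left, pullS_res gX N inf_le_left, ← ha, ← hb, pullS_comb, pullS_comb] at kX
  rw [pullS_res gY N inf_le_left, pullS_res gY N inf_le_left, ← ha, ← hb, pullS_comb, pullS_comb] at kY
  have eX := (stalkBasis_pullS gX hs).eq_of_comb _ kX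
  have eY := (stalkBasis_pullS gY hs).eq_of_comb _ kY
  rw [← ha, ← hb]
  exact Finset.sum_congr rfl fun i _ => by
    rw [(sections_of_isPushout hw hpo (W ⊓ U)).1 _ _ (congrFun eX i) (congrFun eY i)]

include hpo in
theorem exists_section {N : T.Modules} (hN : FlatMod.IsFinLocFree N) (W : T.Opens)
    (x : Γ((Scheme.Modules.pullback gX).obj N, gX ⁻¹ᵁ W)) (y : Γ((Scheme.Modules.pullback gY).obj N, gY ⁻¹ᵁ W))
    (h : (corner fX fY gX gY hw N).hom.app (fX ⁻¹ᵁ gX ⁻¹ᵁ W) (pullS fX _ (gX ⁻¹ᵁ W) x) =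
      res _ (le_corner fX fY gX gY hw W) (pullS fY _ (gY ⁻¹ᵁ W) y)) :
    ∃ m : Γ(N, W), pullS gX N W m = x ∧ pullS gY N W m = y := by
  have hloc : ∀ p : W, ∃ (V : T.Opens) (hV : V ≤ W) (m : Γ(N, V)), (p : T) ∈ V ∧
      pullS gX N V m = res _ (gX.preimage_mono hV) x ∧ pullS gY N V m = res _ (gY.preimage_mono hV) y := by
    intro p
    obtain ⟨U, n, s, hpU, hs⟩ := isFinLocFree_iff.mp hN (p : T)
    let V := W ⊓ U
    have hVW : V ≤ W := inf_le_left
    have hVU : V ≤ U := inf_le_right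
    have hx := stalkBasis_pullS gX hs
    have hy := stalkBasis_pullS gY hs
    obtain ⟨a, ha⟩ := hx.exists_comb (gX.preimage_mono hVU) (res _ (gX.preimage_mono hVW) x)
    obtain ⟨b, hb⟩ := hy.exists_comb (gY.preimage_mono hVU) (res _ (gY.preimage_mono hVW) y)
    have hzV : fX ⁻¹ᵁ gX ⁻¹ᵁ V ≤ fY ⁻¹ᵁ gY ⁻¹ᵁ V := le_corner fX fY gX gY hw V
    -- the equation over the smaller open
    have h' := congrArg (res _ (fX.preimage_mono (gX.preimage_mono hVW))) h
    rw [← QC70.app_res, pullS_res fX _ (gX.preimage_mono hVW), QC70.res_res,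
      show res _ ((fX.preimage_mono (gX.preimage_mono hVW)).trans (le_corner fX fY gX gY hw W))
          (pullS fY _ (gY ⁻¹ᵁ W) y) = res _ hzV (res _ (fY.preimage_mono (gY.preimage_mono hVW))
          (pullS fY _ (gY ⁻¹ᵁ W) y)) from (QC70.res_res _ _ _).symm,
      pullS_res fY _ (gY.preimage_mono hVW), ← ha, ← hb, pullS_comb, pullS_comb, map_sum, QC70.res_sum] at h'
    let zY : Fin n → Γ((Scheme.Modules.pullback fY).obj ((Scheme.Modules.pullback gY).obj N), fX ⁻¹ᵁ gX ⁻¹ᵁ U) :=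
      fun i => res _ (le_corner fX fY gX gY hw U) (pullS fY _ (gY ⁻¹ᵁ U) (pullS gY N U (s i)))
    have hz : StalkBasis zY := (stalkBasis_pullS fY hy).restrict (le_corner fX fY gX gY hw U)
    have hab : (fun i => fX.app (gX ⁻¹ᵁ V) (a i)) = fun i => resO Z hzV (fY.app (gY ⁻¹ᵁ V) (b i)) := by
      refine hz.eq_of_comb (fX.preimage_mono (gX.preimage_mono hVU)) ?_
      refine Eq.trans ?_ (h'.trans ?_)
      · refine Finset.sum_congr rfl fun i _ => ?_
        rw [Scheme.Modules.Hom.app_smul, QC70.app_res, corner_pullS]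
      · refine Finset.sum_congr rfl fun i _ => ?_
        rw [QC70.res_smul, QC70.res_res]
        simp only [zY, QC70.res_res]
    have hc : ∀ i, ∃ c : Γ(T, V), gX.app V c = a i ∧ gY.app V c = b i := fun i => by
      refine (sections_of_isPushout hw hpo V).2 _ _ ?_
      have e1 : fX.appLE (gX ⁻¹ᵁ V) ((fX ≫ gX) ⁻¹ᵁ V) le_rfl = fX.app (gX ⁻¹ᵁ V) := Scheme.Hom.appLE_eq_app fX
      rw [e1]
      exact congrFun hab i
    choose c hcX hcY using hc
    refine ⟨V, hVW, ∑ i, c i • res N hVU (s i), ⟨p.2, hpU⟩, ?_, ?_⟩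
    · rw [pullS_comb, ← ha]; exact Finset.sum_congr rfl fun i _ => by rw [hcX]
    · rw [pullS_comb, ← hb]; exact Finset.sum_congr rfl fun i _ => by rw [hcY]
  choose V hV m hp hmX hmY using hloc
  have hcov : W ≤ ⨆ p, V p := fun p hp' => Opens.mem_iSup.mpr ⟨⟨p, hp'⟩, hp ⟨p, hp'⟩⟩
  have hcomp : TopCat.Presheaf.IsCompatible N.presheaf V m := by
    intro p q
    show res N inf_le_left (m p) = res N inf_le_right (m q)
    refine pullS_injective fX fY gX gY hw hpo hN _ ?_ ?_
    · rw [← pullS_res, ← pullS_res, hmX, hmX, QC70.res_res, QC70.res_res]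
    · rw [← pullS_res, ← pullS_res, hmY, hmY, QC70.res_res, QC70.res_res]
  obtain ⟨m₀, hm₀, -⟩ := TopCat.Sheaf.existsUnique_gluing' ⟨N.presheaf, N.isSheaf⟩ V W (fun p => homOfLE (hV p)) hcov m hcomp
  refine ⟨m₀, ?_, ?_⟩
  · refine QC70.section_ext' _ (fun p => gX ⁻¹ᵁ V p) (fun p => gX.preimage_mono (hV p)) (fun x hx => ?_) _ _ fun p => ?_
    · exact Opens.mem_iSup.mpr ⟨⟨gX x, hx⟩, hp ⟨gX x, hx⟩⟩
    · rw [pullS_res gX N (hV p), ← hmX]; exact congrArg _ (hm₀ p)
  · refine QC70.section_ext' _ (fun p => gY ⁻¹ᵁ V p) (fun p => gY.preimage_mono (hV p)) (fun x hx => ?_) _ _ fun p => ?_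
    · exact Opens.mem_iSup.mpr ⟨⟨gY x, hx⟩, hp ⟨gY x, hx⟩⟩
    · rw [pullS_res gY N (hV p), ← hmY]; exact congrArg _ (hm₀ p)

include hw hpo in
theorem faithful {M N : T.Modules} (hN : FlatMod.IsFinLocFree N) (φ ψ : M ⟶ N)
    (hX : (Scheme.Modules.pullback gX).map φ = (Scheme.Modules.pullback gX).map ψ)
    (hY : (Scheme.Modules.pullback gY).map φ = (Scheme.Modules.pullback gY).map ψ) : φ = ψ := by
  ext W m
  refine pullS_injective fX fY gX gY hw hpo hN W ?_ ?_
  · rw [← map_app_pullS, ← map_app_pullS, hX]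
  · rw [← map_app_pullS, ← map_app_pullS, hY]

theorem map_eq_of_pullS {A B : Scheme.{u}} (g : A ⟶ B) {M N : B.Modules} (φ : M ⟶ N)
    (a : (Scheme.Modules.pullback g).obj M ⟶ (Scheme.Modules.pullback g).obj N)
    (h : ∀ (W : B.Opens) (m : Γ(M, W)), pullS g N W (φ.app W m) = a.app (g ⁻¹ᵁ W) (pullS g M W m)) :
    (Scheme.Modules.pullback g).map φ = a := by
  refine ((Scheme.Modules.pullbackPushforwardAdjunction g).homEquiv _ _).injective ?_
  rw [Adjunction.homEquiv_unit, Adjunction.homEquiv_unit]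
  ext W m
  exact (map_app_pullS g φ W m).trans (h W m)

include hpo in
theorem full {M N : T.Modules} (hN : FlatMod.IsFinLocFree N)
    (a : (Scheme.Modules.pullback gX).obj M ⟶ (Scheme.Modules.pullback gX).obj N)
    (b : (Scheme.Modules.pullback gY).obj M ⟶ (Scheme.Modules.pullback gY).obj N)
    (h : (Scheme.Modules.pullback fX).map a ≫ (corner fX fY gX gY hw N).hom =
      (corner fX fY gX gY hw M).hom ≫ (Scheme.Modules.pullback fY).map b) :
    ∃ φ : M ⟶ N, (Scheme.Modules.pullback gX).map φ = a ∧ (Scheme.Modules.pullback gY).map φ = b := by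
  have hex : ∀ (W : T.Opens) (m : Γ(M, W)), ∃ z : Γ(N, W),
      pullS gX N W z = a.app (gX ⁻¹ᵁ W) (pullS gX M W m) ∧ pullS gY N W z = b.app (gY ⁻¹ᵁ W) (pullS gY M W m) := by
    intro W m
    refine exists_section fX fY gX gY hw hpo hN W _ _ ?_
    have e := ConcreteCategory.congr_hom (congrArg (fun φ => Scheme.Modules.Hom.app φ (fX ⁻¹ᵁ gX ⁻¹ᵁ W)) h)
      (pullS fX _ (gX ⁻¹ᵁ W) (pullS gX M W m))
    rw [← map_app_pullS fX a, ← map_app_pullS fY b, ← QC70.app_res, ← corner_pullS fX fY gX gY hw M W m]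
    exact e
  choose z hzX hzY using hex
  have huniq : ∀ (W : T.Opens) (m : Γ(M, W)) (t : Γ(N, W)),
      pullS gX N W t = a.app (gX ⁻¹ᵁ W) (pullS gX M W m) → pullS gY N W t = b.app (gY ⁻¹ᵁ W) (pullS gY M W m) →
      z W m = t := fun W m t h1 h2 =>
    pullS_injective fX fY gX gY hw hpo hN W ((hzX W m).trans h1.symm) ((hzY W m).trans h2.symm)
  let φ : HomOn M N ⊤ :=
    { app := fun W _ =>
        { toFun := z W
          map_add' := fun m m' => huniq W _ _
            (by rw [pullS_add, pullS_add, map_add, hzX, hzX])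
            (by rw [pullS_add, pullS_add, map_add, hzY, hzY])
          map_smul' := fun r m => huniq W _ _
            (by rw [RingHom.id_apply, pullS_smul, pullS_smul, Scheme.Modules.Hom.app_smul, hzX])
            (by rw [RingHom.id_apply, pullS_smul, pullS_smul, Scheme.Modules.Hom.app_smul, hzY]) }
      app_res := fun {W W'} _ hle m => huniq W' _ _
        (by rw [← pullS_res gX M hle, ← pullS_res gX N hle]; show res _ _ (pullS gX N W (z W m)) = _; rw [hzX, QC70.app_res])
        (by rw [← pullS_res gY M hle, ← pullS_res gY N hle]; show res _ _ (pullS gY N W (z W m)) = _; rw [hzY, QC70.app_res]) }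
  exact ⟨φ.toHom, map_eq_of_pullS gX _ a fun W m => hzX W m, map_eq_of_pullS gY _ b fun W m => hzY W m⟩

end Groth.Agent.Pinch99
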