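import Mathlib.AlgebraicGeometry.Scheme
import Mathlib.Geometry.RingedSpace.SheafedSpace
import Mathlib.Geometry.RingedSpace.PresheafedSpace.HasColimits
import Mathlib.Algebra.MvPolynomial.CommRing
import Mathlib.Algebra.MvPolynomial.Rename
import Mathlib.CategoryTheory.Limits.Shapes.Pullback.IsPullback.Basic

/-!
Sections of a pushout of ringed spaces form a fibre product on every open.
-/

set_option autoImplicit false
set_option backward.isDefEq.respectTransparency.types false
set_option backward.isDefEq.respectTransparency false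

universe u

open CategoryTheory CategoryTheory.Limits AlgebraicGeometry TopologicalSpace Opposite

noncomputable section

namespace Groth.Agent.Pinch99

/-- The functor to sheafed spaces. -/
abbrev toRS : Scheme.{u} ⥤ SheafedSpace CommRingCat.{u} :=
  Scheme.forgetToLocallyRingedSpace ⋙ LocallyRingedSpace.forgetToSheafedSpace

/-- The morphism of presheafed spaces underlying a morphism of schemes. -/
abbrev psh {A B : Scheme.{u}} (f : A ⟶ B) : A.toPresheafedSpace ⟶ B.toPresheafedSpace :=
  SheafedSpace.forgetToPresheafedSpace.map (toRS.map f)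

theorem res_app {A B : Scheme.{u}} (f : A ⟶ B) {U U' : B.Opens} {O : A.Opens}
    (i : op U ⟶ op U') (j : op (f ⁻¹ᵁ U') ⟶ op O) (k : op (f ⁻¹ᵁ U) ⟶ op O) (s : Γ(B, U)) :
    A.presheaf.map j (f.app U' (B.presheaf.map i s)) = A.presheaf.map k (f.app U s) := by
  rw [← CommRingCat.comp_apply (B.presheaf.map i), f.naturality i, CommRingCat.comp_apply, ← CommRingCat.comp_apply,
    ← Functor.map_comp]
  exact congrArg (fun m => A.presheaf.map m (f.app U s)) (Subsingleton.elim _ _)

theorem map_map {A : Scheme.{u}} {U U' U'' : A.Opens} (i : op U ⟶ op U') (j : op U' ⟶ op U'') (k : op U ⟶ op U'')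
    (s : Γ(A, U)) : A.presheaf.map j (A.presheaf.map i s) = A.presheaf.map k s := by
  rw [← CommRingCat.comp_apply, ← Functor.map_comp, Subsingleton.elim (i ≫ j) k]

theorem map_map_self {A : Scheme.{u}} {U U' : A.Opens} (i : op U ⟶ op U') (j : op U' ⟶ op U) (s : Γ(A, U)) :
    A.presheaf.map j (A.presheaf.map i s) = s :=
  (map_map i j (𝟙 _) s).trans (ConcreteCategory.congr_hom (A.presheaf.map_id _) s)

theorem map_map_map_self {A : Scheme.{u}} {U U' U'' : A.Opens} (i : op U ⟶ op U') (j : op U' ⟶ op U'') (k : op U'' ⟶ op U)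
    (s : Γ(A, U)) : A.presheaf.map k (A.presheaf.map j (A.presheaf.map i s)) = s :=
  (congrArg (A.presheaf.map k) (map_map i j (i ≫ j) s)).trans (map_map_self _ _ s)

variable {T : Scheme.{u}} (W : T.Opens)

/-- The free presheaf of rings on a section over `W`. -/
def freePresheaf : TopCat.Presheaf CommRingCat.{u} T.carrier where
  obj V := CommRingCat.of (MvPolynomial (ULift.{u} (PLift (V.unop ≤ W))) ℤ)
  map {V V'} f := CommRingCat.ofHom
    (MvPolynomial.rename (R := ℤ) fun h : ULift.{u} (PLift (V.unop ≤ W)) => (⟨⟨(leOfHom f.unop).trans h.down.down⟩⟩ : ULift.{u} (PLift (V'.unop ≤ W)))).toRingHom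
  map_id V := by
    refine CommRingCat.hom_ext (MvPolynomial.ringHom_ext (fun r => by simp) fun h => ?_)
    simp
  map_comp f g := by
    refine CommRingCat.hom_ext (MvPolynomial.ringHom_ext (fun r => by simp) fun h => ?_)
    simp

/-- The test space. -/
def test : PresheafedSpace CommRingCat.{u} := ⟨T.carrier, freePresheaf W⟩

variable {W} {A : Scheme.{u}}

/-- The morphism to the test space given by a section. -/
def toTest (g : A ⟶ T) (x : Γ(A, g ⁻¹ᵁ W)) : A.toPresheafedSpace ⟶ test W where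
  base := g.base
  c :=
    { app := fun V => CommRingCat.ofHom (MvPolynomial.eval₂Hom (Int.castRingHom Γ(A, g ⁻¹ᵁ V.unop))
        fun h => A.presheaf.map (homOfLE (show g ⁻¹ᵁ V.unop ≤ g ⁻¹ᵁ W from g.preimage_mono h.down.down)).op x)
      naturality := fun V V' f => by
        refine CommRingCat.hom_ext (MvPolynomial.ringHom_ext (fun r => ?_) fun h => ?_)
        · rw [eq_intCast MvPolynomial.C r, map_intCast, map_intCast]
        · show MvPolynomial.eval₂Hom _ _ (MvPolynomial.rename _ (MvPolynomial.X h)) =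
            A.presheaf.map ((Opens.map g.base).op.map f) (MvPolynomial.eval₂Hom _ _ (MvPolynomial.X h))
          rw [MvPolynomial.rename_X, MvPolynomial.eval₂Hom_X', MvPolynomial.eval₂Hom_X']
          exact (map_map _ _ _ x).symm }

theorem toTest_X (g : A ⟶ T) (x : Γ(A, g ⁻¹ᵁ W)) (V : T.Opens) (h : ULift.{u} (PLift (V ≤ W))) :
    (toTest g x).c.app (op V) (MvPolynomial.X h) = A.presheaf.map (homOfLE (g.preimage_mono h.down.down)).op x :=
  MvPolynomial.eval₂Hom_X' _ _ _

variable {X Y Z : Scheme.{u}} {fX : Z ⟶ X} {fY : Z ⟶ Y} {gX : X ⟶ T} {gY : Y ⟶ T}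

theorem sections_of_isPushout (hw : fX ≫ gX = fY ≫ gY)
    (hpo : IsPushout (toRS.map fX) (toRS.map fY) (toRS.map gX) (toRS.map gY)) (W : T.Opens) :
    (∀ s t : Γ(T, W), gX.app W s = gX.app W t → gY.app W s = gY.app W t → s = t) ∧
      ∀ (x : Γ(X, gX ⁻¹ᵁ W)) (y : Γ(Y, gY ⁻¹ᵁ W)),
        fX.appLE (gX ⁻¹ᵁ W) ((fX ≫ gX) ⁻¹ᵁ W) le_rfl x = fY.appLE (gY ⁻¹ᵁ W) ((fX ≫ gX) ⁻¹ᵁ W) (by rw [hw]; exact le_rfl) y →
        ∃ c : Γ(T, W), gX.app W c = x ∧ gY.app W c = y := by
  have hP : IsPushout (psh fX) (psh fY) (psh gX) (psh gY) := hpo.map SheafedSpace.forgetToPresheafedSpace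
  have hbaseT : IsPushout fX.base fY.base gX.base gY.base := hP.map (PresheafedSpace.forget _)
  refine ⟨fun s t h₁ h₂ => ?_, fun x y hxy => ?_⟩
  · have key : ∀ {A : Scheme.{u}} (g : A ⟶ T) (s : Γ(T, W)),
        psh g ≫ toTest (W := W) (𝟙 T) s = toTest g (g.app W s) := by
      intro A g s
      refine PresheafedSpace.ext _ _ rfl ?_
      refine NatTrans.ext (funext fun V => CommRingCat.hom_ext (MvPolynomial.ringHom_ext (fun r => ?_) fun h => ?_))
      · rw [eq_intCast MvPolynomial.C r, map_intCast, map_intCast]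
      · refine Eq.trans ?_ (toTest_X g (g.app W s) V.unop h).symm
        refine (congrArg (fun z => A.presheaf.map _ (g.app V.unop z)) (toTest_X (𝟙 T) s V.unop h)).trans ?_
        exact res_app g _ _ _ s
    have e : toTest (𝟙 T) s = toTest (𝟙 T) t :=
      hP.hom_ext ((key gX s).trans (h₁ ▸ (key gX t).symm)) ((key gY s).trans (h₂ ▸ (key gY t).symm))
    have e' := ConcreteCategory.congr_hom (PresheafedSpace.congr_app e (op W)) (MvPolynomial.X ⟨⟨le_rfl⟩⟩)
    refine ((ConcreteCategory.congr_hom (T.presheaf.map_id _) s).symm.trans ?_)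
    refine ((toTest_X (𝟙 T) s W ⟨⟨le_rfl⟩⟩).symm.trans (e'.trans ?_))
    refine (congrArg (T.presheaf.map _) (toTest_X (𝟙 T) t W ⟨⟨le_rfl⟩⟩)).trans ?_
    exact map_map_self _ _ t
  · have hcomp : psh fX ≫ toTest gX x = psh fY ≫ toTest gY y := by
      have hb : fX.base ≫ gX.base = fY.base ≫ gY.base := congrArg (fun f : Z ⟶ T => f.base) hw
      refine PresheafedSpace.ext _ _ hb ?_
      refine NatTrans.ext (funext fun V => CommRingCat.hom_ext (MvPolynomial.ringHom_ext (fun r => ?_) fun h => ?_))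
      · rw [eq_intCast MvPolynomial.C r, map_intCast, map_intCast]
      · have hle : (fX ≫ gX) ⁻¹ᵁ V.unop ≤ (fX ≫ gX) ⁻¹ᵁ W := (fX ≫ gX).preimage_mono h.down.down
        have hY : (fX ≫ gX) ⁻¹ᵁ V.unop = fY ⁻¹ᵁ gY ⁻¹ᵁ V.unop := by rw [hw]; rfl
        refine (congrArg (fun z => Z.presheaf.map _ (fX.app _ z)) (toTest_X gX x V.unop h)).trans ?_
        refine Eq.trans ?_ (congrArg (fun z => fY.app _ z) (toTest_X gY y V.unop h)).symm
        have := congrArg (Z.presheaf.map (homOfLE (hY.ge.trans hle)).op) hxy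
        rw [Scheme.Hom.appLE, Scheme.Hom.appLE, CommRingCat.comp_apply, CommRingCat.comp_apply, ← CommRingCat.comp_apply (Z.presheaf.map _),
          ← Functor.map_comp, ← CommRingCat.comp_apply (Z.presheaf.map _), ← Functor.map_comp] at this
        have hy' := res_app fY (homOfLE (gY.preimage_mono h.down.down)).op (𝟙 _)
          ((homOfLE (fY.preimage_mono (gY.preimage_mono h.down.down))).op) y
        rw [Z.presheaf.map_id] at hy'
        refine Eq.trans ?_ hy'.symm
        refine (res_app fX (U := gX ⁻¹ᵁ W) (U' := gX ⁻¹ᵁ V.unop) (O := fY ⁻¹ᵁ gY ⁻¹ᵁ V.unop) _ _ (homOfLE (hY.ge.trans hle)).op x).trans ?_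
        exact (congrArg (fun m => Z.presheaf.map m (fX.app _ x)) (Subsingleton.elim _ _)).trans
          (this.trans (congrArg (fun m => Z.presheaf.map m (fY.app _ y)) (Subsingleton.elim _ _)))
    let m := hP.desc (toTest gX x) (toTest gY y) hcomp
    have hm₁ := hP.inl_desc (toTest gX x) (toTest gY y) hcomp
    have hm₂ := hP.inr_desc (toTest gX x) (toTest gY y) hcomp
    have hmb : m.base = 𝟙 T.carrier := hbaseT.hom_ext
      ((congrArg (fun f => PresheafedSpace.Hom.base f) hm₁).trans (Category.comp_id _).symm)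
      ((congrArg (fun f => PresheafedSpace.Hom.base f) hm₂).trans (Category.comp_id _).symm)
    have hWle : W ≤ (Opens.map m.base).obj W := by rw [hmb]; exact le_rfl
    let v : (freePresheaf W).obj (op W) := MvPolynomial.X ⟨⟨le_rfl⟩⟩
    let s' : Γ(T, (Opens.map m.base).obj W) := (m.c.app (op W)).hom v
    refine ⟨T.presheaf.map (homOfLE hWle).op s', ?_, ?_⟩
    · have e := (ConcreteCategory.congr_hom (PresheafedSpace.congr_app hm₁ (op W)) v).trans
        (congrArg (X.presheaf.map _) (toTest_X gX x W ⟨⟨le_rfl⟩⟩))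
      rw [← CommRingCat.comp_apply, gX.naturality, CommRingCat.comp_apply]
      refine (congrArg (X.presheaf.map _) e).trans ?_
      exact map_map_map_self _ _ _ x
    · have e := (ConcreteCategory.congr_hom (PresheafedSpace.congr_app hm₂ (op W)) v).trans
        (congrArg (Y.presheaf.map _) (toTest_X gY y W ⟨⟨le_rfl⟩⟩))
      rw [← CommRingCat.comp_apply, gY.naturality, CommRingCat.comp_apply]
      refine (congrArg (Y.presheaf.map _) e).trans ?_
      exact map_map_map_self _ _ _ y

end Groth.Agent.Pinch99
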